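import Cfsg.Agent.QuadNormal.Step

/-!
# Subgroups of units generated by square-zero subgroups normalising one another

If square-zero subgroups normalise one another then every square-zero element of their sum gives an
element of the group of units they generate.
-/

set_option autoImplicit false
set_option linter.unusedSectionVars false

namespace Cfsg.Agent.QuadNormal

noncomputable section

variable {R : Type*} [Ring R] {p : ℕ}

/-- The units `1 + b`, `b ∈ B`, normalise `A`. -/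
def NormsRing (B A : AddSubgroup R) : Prop := ∀ b ∈ B, ∀ a ∈ A, (1 + b) * a * (1 - b) ∈ A

/-- The units `1 + a`, `a ∈ A`, lie in `U`. -/
def InU (U : Submonoid R) (A : AddSubgroup R) : Prop := ∀ a ∈ A, 1 + a ∈ U

theorem brk_mem_of_norms (hp : Odd p) (hchar : ∀ x : R, p • x = 0) {A B : AddSubgroup R}
    (h : NormsRing B A) {b a : R} (hb : b ∈ B) (ha : a ∈ A) : brk b a ∈ A := by
  refine mem_of_two_nsmul hp hchar ?_
  have h1 := sub_mem (h b hb a ha) (h (-b) (neg_mem hb) a ha)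
  convert h1 using 1
  simp only [brk]
  noncomm_ring

theorem mul_mul_self_eq_zero {A B : AddSubgroup R} (hA : ZeroProd A) {b a : R} (ha : a ∈ A)
    (hab : brk b a ∈ A) : a * b * a = 0 := by
  have h1 := hA a ha _ hab
  rw [brk, mul_sub, ← mul_assoc, ← mul_assoc a a, hA a ha a ha, zero_mul, sub_zero] at h1
  exact h1

/-- Two subgroups, the first normalising the second. -/
theorem one_add_mem_pair (hp : Odd p) (hchar : ∀ x : R, p • x = 0) {U : Submonoid R}
    {A B : AddSubgroup R} (hB : ZeroProd B) (hUA : InU U A) (hUB : InU U B) (h : NormsRing B A)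
    {x : R} (hx : x ∈ B ⊔ A) (hxx : x * x = 0) (hA : ZeroProd A) : 1 + x ∈ U := by
  obtain ⟨b, hb, a, ha, rfl⟩ := AddSubgroup.mem_sup.mp hx
  have h0 : b * a + a * b = 0 := by
    simpa [mul_add, add_mul, hB b hb b hb, hA a ha a ha, add_comm (b * a)] using hxx
  have hba : b * a ∈ A := mem_of_two_nsmul hp hchar (by
    have h1 := brk_mem_of_norms hp hchar h hb ha
    rwa [brk, eq_neg_of_add_eq_zero_right h0, sub_neg_eq_add] at h1)
  have h2 := U.mul_mem (hUB b hb) (hUA _ (sub_mem ha hba))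
  convert h2 using 1
  have e : b * (b * a) = 0 := by rw [← mul_assoc, hB b hb b hb, zero_mul]
  simp only [mul_add, add_mul, one_mul, mul_one, mul_sub, e]
  abel

/-- The space swept by conjugation with an element of a normalised partner. -/
theorem pair_swept (hp : Odd p) (hchar : ∀ x : R, p • x = 0) {A B : AddSubgroup R} (hA : ZeroProd A)
    (h : NormsRing B A) {d b : R} (hd : d ∈ A) (hb : b ∈ B) :
    b ∈ B ⊔ A ∧ brk d b ∈ B ⊔ A ∧ d * b * d ∈ B ⊔ A := by
  have h1 := brk_mem_of_norms hp hchar h hb hd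
  refine ⟨AddSubgroup.mem_sup_left hb, AddSubgroup.mem_sup_right ?_, ?_⟩
  · rw [show brk d b = -brk b d by rw [brk, brk, neg_sub]]
    exact neg_mem h1
  · rw [mul_mul_self_eq_zero (B := B) hA hd h1]
    exact zero_mem _

/-- Three subgroups normalising one another. -/
theorem one_add_mem_triple (hp : Odd p) (hchar : ∀ x : R, p • x = 0) {U : Submonoid R}
    {A A₁ A₂ : AddSubgroup R} (hA : ZeroProd A) (hA₁ : ZeroProd A₁) (hA₂ : ZeroProd A₂)
    (hU : InU U A) (hU₁ : InU U A₁) (hU₂ : InU U A₂) (h₁₀ : NormsRing A₁ A) (h₂₀ : NormsRing A₂ A)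
    (h₁₂ : NormsRing A₁ A₂) (h₂₁ : NormsRing A₂ A₁)
    {x : R} (hx : x ∈ A ⊔ (A₁ ⊔ A₂)) (hxx : x * x = 0) : 1 + x ∈ U := by
  obtain ⟨a, ha, y, hy, rfl⟩ := AddSubgroup.mem_sup.mp hx
  obtain ⟨a₁, ha₁, a₂, ha₂, rfl⟩ := AddSubgroup.mem_sup.mp hy
  obtain ⟨k, hk⟩ := id hp
  set γ := (k + 1) • brk a₂ a₁ with hγ
  have hhalf : ∀ z : R, (k + 1) • z + (k + 1) • z = z := fun z => by
    rw [← add_nsmul, show k + 1 + (k + 1) = p + 1 by omega, succ_nsmul, hchar, zero_add]
  have hγ₁ : brk a₂ a₁ ∈ A₁ := brk_mem_of_norms hp hchar h₂₁ ha₂ ha₁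
  have hγ₂ : brk a₂ a₁ ∈ A₂ := by
    have h1 := neg_mem (brk_mem_of_norms hp hchar h₁₂ ha₁ ha₂)
    rwa [show -brk a₁ a₂ = brk a₂ a₁ by rw [brk, brk, neg_sub]] at h1
  have e11 : a₁ * a₁ = 0 := hA₁ _ ha₁ _ ha₁
  have e22 : a₂ * a₂ = 0 := hA₂ _ ha₂ _ ha₂
  have e121 : a₁ * a₂ * a₁ = 0 := mul_mul_self_eq_zero (B := A₂) hA₁ ha₁ hγ₁
  have e212 : a₂ * a₁ * a₂ = 0 := mul_mul_self_eq_zero (B := A₁) hA₂ ha₂
    (by
      rw [show brk a₁ a₂ = -brk a₂ a₁ by rw [brk, brk, neg_sub]]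
      exact neg_mem hγ₂)
  -- the pair
  set η := a₁ + a₂ with hη
  set η2 := (k + 1) • (η * η) with hη2
  have hη3 : η * η * η = 0 := by
    simp only [hη, add_mul, mul_add, e11, e22, e121, e212, zero_mul, add_zero, zero_add]
    rw [mul_assoc a₁ a₂ a₂, e22, mul_assoc a₂ a₁ a₁, e11]
    simp
  have hE : 1 + η + η2 ∈ U := by
    have h2 := U.mul_mem (hU₁ a₁ ha₁) (hU₂ _ (add_mem ha₂ (AddSubgroup.nsmul_mem _ hγ₂ (k + 1))))
    convert h2 using 1
    have hz : a₁ * ((k + 1) • brk a₂ a₁) = 0 := by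
      rw [mul_smul_comm, hA₁ _ ha₁ _ hγ₁, nsmul_zero]
    have e : η2 = a₁ * a₂ + γ := by
      rw [hη2, hγ, hη]
      simp only [mul_add, add_mul, e11, e22, zero_add, add_zero, brk, nsmul_add, nsmul_sub]
      generalize a₁ * a₂ = u
      generalize a₂ * a₁ = v
      have hu := hhalf u
      generalize (k + 1) • u = u' at hu ⊢
      rw [← hu]; abel
    rw [mul_add, add_mul, add_mul, one_mul, one_mul, mul_one, mul_add, hz, hη, e, hγ]
    abel
  -- the third factor
  have hδ : brk η a ∈ A := by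
    rw [show brk η a = brk a₁ a + brk a₂ a by simp only [brk, hη, add_mul, mul_add]; abel]
    exact add_mem (brk_mem_of_norms hp hchar h₁₀ ha₁ ha) (brk_mem_of_norms hp hchar h₂₀ ha₂ ha)
  have eaa : a * a = 0 := hA a ha a ha
  have eaηa : a * η * a = 0 := mul_mul_self_eq_zero (B := A) hA ha hδ
  have h0 : a * η + η * a + η * η = 0 := by
    have := hxx
    simp only [mul_add, add_mul, eaa, zero_add] at this
    rw [← this]; abel
  have eaηη : a * (η * η) = 0 := by
    have h1 := congrArg (a * ·) h0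
    simp only [mul_add, mul_zero, ← mul_assoc, eaa, zero_mul, eaηa, zero_add] at h1
    rw [← mul_assoc]; exact h1
  have eηaη : η * a * η = 0 := by
    have h1 := congrArg (· * η) h0
    simp only [add_mul, zero_mul, mul_assoc, eaηη, zero_add] at h1
    rw [← mul_assoc η η η, hη3, add_zero] at h1
    rw [mul_assoc]; exact h1
  set δ := (k + 1) • brk η a with hδ'
  have h3 := U.mul_mem (hU _ (add_mem ha (AddSubgroup.nsmul_mem _ hδ (k + 1)))) hE
  convert h3 using 1
  have hδη : brk η a * η = 0 := by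
    rw [brk, sub_mul, eηaη, mul_assoc a, eaηη, sub_zero]
  have z1 : δ * η = 0 := by
    rw [hδ', smul_mul_assoc, hδη, nsmul_zero]
  have z2 : a * η2 = 0 := by
    rw [hη2, mul_smul_comm, eaηη, nsmul_zero]
  have z3 : δ * η2 = 0 := by
    rw [hη2, mul_smul_comm, ← mul_assoc, z1, zero_mul, nsmul_zero]
  have key : δ + a * η + η2 = 0 := by
    have e : (k + 1) • brk η a + a * η + (k + 1) • (η * η) =
        (k + 1) • (a * η + η * a + η * η) := by
      simp only [brk, nsmul_add, nsmul_sub]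
      have hu := hhalf (a * η)
      generalize (k + 1) • (a * η) = u' at hu ⊢
      rw [← hu]; abel
    rw [hδ', hη2, e, h0, nsmul_zero]
  simp only [← hδ', add_mul, mul_add, one_mul, mul_one, z1, z2, z3, add_zero]
  calc 1 + (a + η) = 1 + (a + η) + (δ + a * η + η2) := by rw [key, add_zero]
    _ = _ := by abel

/-- The space swept by conjugation with `1 + D`. -/
theorem triple_swept (hp : Odd p) (hchar : ∀ x : R, p • x = 0) {A A₁ A₂ : AddSubgroup R} {D a : R}
    (h₁ : ∀ a ∈ A, (1 + D) * a * (1 - D) ∈ A₁) (h₂ : ∀ a ∈ A, (1 - D) * a * (1 + D) ∈ A₂)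
    (ha : a ∈ A) : a ∈ A ⊔ (A₁ ⊔ A₂) ∧ brk D a ∈ A ⊔ (A₁ ⊔ A₂) ∧ D * a * D ∈ A ⊔ (A₁ ⊔ A₂) := by
  set S := A ⊔ (A₁ ⊔ A₂) with hS
  have m0 : a ∈ S := AddSubgroup.mem_sup_left ha
  have m1 : (1 + D) * a * (1 - D) ∈ S :=
    AddSubgroup.mem_sup_right (AddSubgroup.mem_sup_left (h₁ a ha))
  have m2 : (1 - D) * a * (1 + D) ∈ S :=
    AddSubgroup.mem_sup_right (AddSubgroup.mem_sup_right (h₂ a ha))
  refine ⟨m0, mem_of_two_nsmul hp hchar ?_, mem_of_two_nsmul hp hchar ?_⟩
  · convert sub_mem m1 m2 using 1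
    simp only [brk]; noncomm_ring
  · convert sub_mem (add_mem m0 m0) (add_mem m1 m2) using 1
    noncomm_ring

end

end Cfsg.Agent.QuadNormal
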