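import Mathlib

/-!
# Leading coefficients of a moving subgroup

For additive subgroups `A` of a ring and an element `D` of square zero the leading coefficients of
the polynomials `(1 + D X) Q r`, where `Q` has coefficients in `A`, form a subgroup at least as large
as `A`; it is the limit of the translates of `A` as the parameter tends to infinity.
-/

set_option autoImplicit false
set_option linter.unusedSectionVars false

namespace Cfsg.Agent.QuadNormal

noncomputable section

open Polynomial

variable {R : Type*} [Ring R]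

/-- Polynomials with all coefficients in `A`. -/
def polys (A : AddSubgroup R) : AddSubgroup R[X] where
  carrier := {Q | ∀ n, Q.coeff n ∈ A}
  zero_mem' n := by simp [zero_mem]
  add_mem' hP hQ n := by rw [coeff_add]; exact add_mem (hP n) (hQ n)
  neg_mem' hP n := by rw [coeff_neg]; exact neg_mem (hP n)

theorem mem_polys {A : AddSubgroup R} {Q : R[X]} : Q ∈ polys A ↔ ∀ n, Q.coeff n ∈ A := Iff.rfl

/-- The transformed polynomials. -/
def moved (A : AddSubgroup R) (l r : R[X]) : AddSubgroup R[X] :=
  (polys A).map ((AddMonoidHom.mulLeft l).comp (AddMonoidHom.mulRight r))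

theorem mem_moved {A : AddSubgroup R} {l r P : R[X]} :
    P ∈ moved A l r ↔ ∃ Q ∈ polys A, l * (Q * r) = P := by
  simp [moved, AddSubgroup.mem_map]

theorem moved_mono {A B : AddSubgroup R} (h : A ≤ B) (l r : R[X]) : moved A l r ≤ moved B l r :=
  AddSubgroup.map_mono fun _ hQ n => h (hQ n)

theorem polys_mul_X {A : AddSubgroup R} {Q : R[X]} (hQ : Q ∈ polys A) : Q * X ∈ polys A := by
  intro n
  cases n with
  | zero => simp [zero_mem]
  | succ n => rw [coeff_mul_X]; exact hQ n

theorem moved_mul_X {A : AddSubgroup R} {l r P : R[X]} (hP : P ∈ moved A l r) :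
    P * X ∈ moved A l r := by
  obtain ⟨Q, hQ, rfl⟩ := mem_moved.mp hP
  refine mem_moved.mpr ⟨Q * X, polys_mul_X hQ, ?_⟩
  rw [mul_assoc l, mul_assoc Q r, ← X_mul (p := r), mul_assoc Q X r]

theorem moved_mul_X_pow {A : AddSubgroup R} {l r P : R[X]} (hP : P ∈ moved A l r) :
    ∀ k : ℕ, P * X ^ k ∈ moved A l r
  | 0 => by simpa using hP
  | k + 1 => by rw [pow_succ, ← mul_assoc]; exact moved_mul_X (moved_mul_X_pow hP k)

/-- The leading coefficients, zero included. -/
def lead (A : AddSubgroup R) (l r : R[X]) : AddSubgroup R where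
  carrier := {c | ∃ P ∈ moved A l r, ∃ n, P.natDegree ≤ n ∧ P.coeff n = c}
  zero_mem' := ⟨0, zero_mem _, 0, by simp, by simp⟩
  add_mem' := by
    rintro a b ⟨P, hP, n, hn, rfl⟩ ⟨P', hP', m, hm, rfl⟩
    refine ⟨P * X ^ m + P' * X ^ n, add_mem (moved_mul_X_pow hP m) (moved_mul_X_pow hP' n),
      n + m, ?_, ?_⟩
    · refine (natDegree_add_le _ _).trans (max_le ?_ ?_)
      · exact (natDegree_mul_le).trans (by simpa using add_le_add hn (natDegree_X_pow_le m))
      · exact (natDegree_mul_le).trans (by
          have := add_le_add hm (natDegree_X_pow_le (R := R) n); omega)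
    · rw [coeff_add, coeff_mul_X_pow, add_comm n m, coeff_mul_X_pow]
  neg_mem' := by
    rintro a ⟨P, hP, n, hn, rfl⟩
    exact ⟨-P, neg_mem hP, n, by rwa [natDegree_neg], coeff_neg P n⟩

theorem lead_mono {A B : AddSubgroup R} (h : A ≤ B) (l r : R[X]) : lead A l r ≤ lead B l r := by
  rintro c ⟨P, hP, n, hn, rfl⟩
  exact ⟨P, moved_mono h l r hP, n, hn, rfl⟩

/-- The moved polynomials of bounded degree. -/
def movedLE (A : AddSubgroup R) (l r : R[X]) (n : ℕ) : AddSubgroup R[X] :=
  moved A l r ⊓ (degreeLE R (n : WithBot ℕ)).toAddSubgroup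

theorem mem_movedLE {A : AddSubgroup R} {l r P : R[X]} {n : ℕ} :
    P ∈ movedLE A l r n ↔ P ∈ moved A l r ∧ P.natDegree ≤ n := by
  simp [movedLE, AddSubgroup.mem_inf, mem_degreeLE, natDegree_le_iff_degree_le]

instance [Finite R] (A : AddSubgroup R) (l r : R[X]) (n : ℕ) : Finite (movedLE A l r n) := by
  refine Finite.of_injective (fun P : movedLE A l r n => fun i : Fin (n + 1) => (P : R[X]).coeff i)
    fun P Q h => Subtype.ext (Polynomial.ext fun i => ?_)
  rcases Nat.lt_or_ge i (n + 1) with hi | hi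
  · exact congrFun h ⟨i, hi⟩
  · rw [coeff_eq_zero_of_natDegree_lt (lt_of_le_of_lt (mem_movedLE.mp P.2).2 (by omega)),
      coeff_eq_zero_of_natDegree_lt (lt_of_le_of_lt (mem_movedLE.mp Q.2).2 (by omega))]

theorem card_movedLE_le [Finite R] (A : AddSubgroup R) (l r : R[X]) :
    ∀ n, Nat.card (movedLE A l r n) ≤ Nat.card (lead A l r) ^ (n + 1) := by
  intro n
  induction n with
  | zero =>
    rw [zero_add, pow_one]
    refine Nat.card_le_card_of_injective (fun P : movedLE A l r 0 =>
      (⟨(P : R[X]).coeff 0, P, (mem_movedLE.mp P.2).1, 0, (mem_movedLE.mp P.2).2, rfl⟩ :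
        lead A l r)) fun P Q h => Subtype.ext ?_
    have h' := congrArg (fun x : lead A l r => (x : R)) h
    rw [eq_C_of_natDegree_le_zero (mem_movedLE.mp P.2).2,
      eq_C_of_natDegree_le_zero (mem_movedLE.mp Q.2).2]
    exact congrArg C h'
  | succ n ih =>
    let f : movedLE A l r (n + 1) →+ R :=
      { toFun := fun P => (P : R[X]).coeff (n + 1)
        map_zero' := by simp
        map_add' := fun P Q => by simp [coeff_add] }
    have h1 : Nat.card f.range ≤ Nat.card (lead A l r) := AddSubgroup.card_le_of_le (by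
      rintro c ⟨P, rfl⟩
      exact ⟨P, (mem_movedLE.mp P.2).1, n + 1, (mem_movedLE.mp P.2).2, rfl⟩)
    have h2 : Nat.card f.ker ≤ Nat.card (movedLE A l r n) := by
      refine Nat.card_le_card_of_injective (fun P : f.ker =>
        (⟨((P : movedLE A l r (n + 1)) : R[X]), mem_movedLE.mpr ⟨(mem_movedLE.mp P.1.2).1, ?_⟩⟩ :
          movedLE A l r n)) fun P Q h => Subtype.ext (Subtype.ext ?_)
      · rw [natDegree_le_iff_coeff_eq_zero]
        intro i hi
        rcases Nat.eq_or_lt_of_le (Nat.succ_le_of_lt hi) with e | e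
        · rw [← e]; exact AddMonoidHom.mem_ker.mp P.2
        · exact coeff_eq_zero_of_natDegree_lt (lt_of_le_of_lt (mem_movedLE.mp P.1.2).2 e)
      · exact congrArg (fun x : movedLE A l r n => (x : R[X])) h
    have h3 : Nat.card (movedLE A l r (n + 1)) = Nat.card f.range * Nat.card f.ker := by
      rw [AddSubgroup.card_eq_card_quotient_mul_card_addSubgroup f.ker,
        Nat.card_congr (QuotientAddGroup.quotientKerEquivRange f).toEquiv]
    rw [h3, pow_succ' _ (n + 1)]
    exact Nat.mul_le_mul h1 (h2.trans ih)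

/-- The limit is no smaller. -/
theorem card_le_card_lead [Finite R] (A : AddSubgroup R) (l r l' r' : R[X]) (hl : l' * l = 1)
    (hr : r * r' = 1) (hl1 : l.natDegree ≤ 1) (hr1 : r.natDegree ≤ 1) :
    Nat.card A ≤ Nat.card (lead A l r) := by
  set q := Nat.card (lead A l r) with hq
  have hq0 : 0 < q := Nat.card_pos
  have key : ∀ m : ℕ, Nat.card A ^ (m + 1) ≤ q ^ (m + 3) := by
    intro m
    let g : (Fin (m + 1) → A) → R[X] := fun a => ∑ i : Fin (m + 1), monomial (i : ℕ) (a i : R)
    have hgd : ∀ a, (g a).natDegree ≤ m := fun a =>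
      natDegree_sum_le_of_forall_le _ _ fun i _ => (natDegree_monomial_le _).trans (by omega)
    have hgc : ∀ (a : Fin (m + 1) → A) (j : Fin (m + 1)), (g a).coeff j = a j := by
      intro a j
      rw [finsetSum_coeff, Finset.sum_eq_single j]
      · rw [coeff_monomial, if_pos rfl]
      · intro i _ hij; rw [coeff_monomial, if_neg fun e => hij (Fin.ext e)]
      · simp
    have hgA : ∀ a, g a ∈ polys A := fun a =>
      sum_mem fun i _ k => by
        rw [coeff_monomial]; split
        · exact (a i).2
        · exact zero_mem _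
    refine le_trans ?_ (card_movedLE_le A l r (m + 2))
    rw [show Nat.card A ^ (m + 1) = Nat.card (Fin (m + 1) → A) by
      rw [Nat.card_fun, Nat.card_fin]]
    refine Nat.card_le_card_of_injective (fun a => (⟨l * (g a * r), mem_movedLE.mpr
      ⟨mem_moved.mpr ⟨g a, hgA a, rfl⟩, ?_⟩⟩ : movedLE A l r (m + 2))) fun a b h => ?_
    · refine natDegree_mul_le.trans ?_
      have h1 := natDegree_mul_le (p := g a) (q := r)
      have := hgd a
      omega
    · have h' : l' * (l * (g a * r)) * r' = l' * (l * (g b * r)) * r' :=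
        congrArg (fun y : R[X] => l' * y * r') (congrArg Subtype.val h)
      rw [← mul_assoc l', hl, one_mul, mul_assoc, hr, mul_one, ← mul_assoc l', hl, one_mul,
        mul_assoc, hr, mul_one] at h'
      funext j
      exact Subtype.ext (by rw [← hgc a j, ← hgc b j, h'])
  by_contra hlt
  push Not at hlt
  have h1 : (q + 1) ^ (q ^ 3 + 1) ≤ q ^ (q ^ 3 + 3) :=
    (Nat.pow_le_pow_left hlt _).trans (key (q ^ 3))
  have h2 : ∀ M : ℕ, q ^ M * (q + M) ≤ (q + 1) ^ M * q := by
    intro M
    induction M with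
    | zero => simp
    | succ M ih =>
      rw [pow_succ, pow_succ]
      calc q ^ M * q * (q + (M + 1)) ≤ q ^ M * (q + M) * (q + 1) := by
            rw [mul_assoc, mul_assoc]; exact Nat.mul_le_mul_left _ (by nlinarith)
        _ ≤ (q + 1) ^ M * q * (q + 1) := Nat.mul_le_mul_right _ ih
        _ = (q + 1) ^ M * (q + 1) * q := by ring
  have h3 := (h2 (q ^ 3 + 1)).trans (Nat.mul_le_mul_right q h1)
  rw [show q ^ (q ^ 3 + 3) * q = q ^ (q ^ 3 + 1) * q ^ 3 by ring] at h3
  have h4 := Nat.le_of_mul_le_mul_left h3 (pow_pos hq0 _)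
  omega

end

end Cfsg.Agent.QuadNormal
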