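import Cfsg.Agent.QuadNormal.Rep
import Cfsg.Agent.PGV.Replacement

/-!
# A quadratic offender normal in its normal closure

For an odd prime `p` a `p`-group acting faithfully on an elementary abelian `p`-group with an
offender has a quadratic offender whose conjugates normalise one another.
-/

set_option autoImplicit false
set_option linter.unusedSectionVars false

namespace Cfsg.Agent.QuadNormal

noncomputable section

variable {p : ℕ} {V : Type*} [AddCommGroup V] [Finite V] {Γ : Type*} [Group Γ] [Finite Γ]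
  [DistribMulAction Γ V]

/-- The units coming from the group. -/
def unitsOf (p : ℕ) (Γ : Type*) [Group Γ] (V : Type*) [AddCommGroup V] [DistribMulAction Γ V] :
    Submonoid (Big p V) := MonoidHom.mrange (rep p V : Γ →* Big p V)

theorem exists_dev {A : AddSubgroup (Big p V)} (h : InU (unitsOf p Γ V) A) {a : Big p V} (ha : a ∈ A) :
    ∃ g : Γ, dev p V g = a := by
  obtain ⟨g, hg⟩ := MonoidHom.mem_mrange.mp (h a ha)
  exact ⟨g, by rw [dev, hg, add_sub_cancel_left]⟩

/-- The vectors killed by `A`. -/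
def ann (hpV : ∀ v : V, p • v = 0) (A : AddSubgroup (Big p V)) : AddSubgroup V where
  carrier := {v | ∀ a ∈ A, a * vec hpV v = 0}
  zero_mem' a _ := by rw [map_zero, mul_zero]
  add_mem' hu hv a ha := by rw [map_add, mul_add, hu a ha, hv a ha, add_zero]
  neg_mem' hu a ha := by rw [map_neg]; exact (mul_neg a _).trans (by rw [hu a ha, neg_zero])

/-- A quadratic offender, seen in the ring. -/
structure Good (Γ : Type*) [Group Γ] [DistribMulAction Γ V] (hpV : ∀ v : V, p • v = 0)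
    (A : AddSubgroup (Big p V)) : Prop where
  zp : ZeroProd A
  inU : InU (unitsOf p Γ V) A
  ne : A ≠ ⊥
  off : Nat.card V ≤ Nat.card A * Nat.card (ann hpV A)

theorem Good.le_lev {hpV : ∀ v : V, p • v = 0} {A : AddSubgroup (Big p V)} (hA : Good Γ hpV A) :
    A ≤ lev p Γ V 0 := by
  intro a ha
  obtain ⟨g, rfl⟩ := exists_dev hA.inU ha
  exact dev_mem_lev g

/-- The depth. -/
def depth (p : ℕ) (Γ : Type*) [Group Γ] (V : Type*) [AddCommGroup V] [DistribMulAction Γ V] (N : ℕ)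
    (A : AddSubgroup (Big p V)) : ℕ :=
  ∑ i ∈ Finset.range N, Nat.card ↥(A ⊓ lev p Γ V i)

/-- Conjugation by a group element. -/
def conjR (p : ℕ) (V : Type*) [AddCommGroup V] [DistribMulAction Γ V] (g : Γ) :
    Big p V →+ Big p V :=
  (AddMonoidHom.mulLeft (rep p V g)).comp (AddMonoidHom.mulRight (rep p V g⁻¹))

theorem conjR_apply (g : Γ) (a : Big p V) : conjR p V g a = rep p V g * (a * rep p V g⁻¹) := rfl

theorem rep_mul_inv (g : Γ) : rep p V g * rep p V g⁻¹ = 1 := by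
  rw [← map_mul, mul_inv_cancel, map_one]

theorem rep_inv_mul (g : Γ) : rep p V g⁻¹ * rep p V g = 1 := by
  rw [← map_mul, inv_mul_cancel, map_one]

theorem conjR_conjR (g h : Γ) (a : Big p V) :
    conjR p V g (conjR p V h a) = conjR p V (g * h) a := by
  simp only [conjR_apply, map_mul, mul_inv_rev, mul_assoc]

theorem conjR_one (a : Big p V) : conjR p V (1 : Γ) a = a := by simp [conjR_apply]

theorem conjR_injective (g : Γ) : Function.Injective (conjR p V g) := fun a b h => by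
  have := congrArg (conjR p V g⁻¹) h
  rwa [conjR_conjR, conjR_conjR, inv_mul_cancel, conjR_one, conjR_one] at this

theorem conjR_mul (g : Γ) (a b : Big p V) :
    conjR p V g a * conjR p V g b = conjR p V g (a * b) := by
  simp only [conjR_apply, mul_assoc]
  rw [← mul_assoc (rep p V g⁻¹) (rep p V g), rep_inv_mul, one_mul]

theorem conjR_dev (g h : Γ) : conjR p V g (dev p V h) = dev p V (g * h * g⁻¹) := by
  rw [conjR_apply, dev, dev, map_mul, map_mul, sub_mul, one_mul, mul_sub, rep_mul_inv, mul_assoc]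

theorem conjR_eq {h : Γ} (hh : dev p V h * dev p V h = 0) (a : Big p V) :
    conjR p V h a = (1 + dev p V h) * a * (1 - dev p V h) := by
  rw [conjR_apply, one_add_dev, one_sub_dev_eq hh, mul_assoc]

theorem good_map {hpV : ∀ v : V, p • v = 0} {A : AddSubgroup (Big p V)} (hA : Good Γ hpV A) (g : Γ) :
    Good Γ hpV (A.map (conjR p V g)) := by
  refine ⟨?_, ?_, fun h => hA.ne ((AddSubgroup.map_eq_bot_iff_of_injective _ (conjR_injective g)).mp h), ?_⟩
  · rintro _ ⟨a, ha, rfl⟩ _ ⟨b, hb, rfl⟩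
    rw [conjR_mul, hA.zp a ha b hb, map_zero]
  · rintro _ ⟨a, ha, rfl⟩
    obtain ⟨h, rfl⟩ := exists_dev hA.inU ha
    exact MonoidHom.mem_mrange.mpr ⟨g * h * g⁻¹, by rw [conjR_dev, one_add_dev]⟩
  · rw [AddSubgroup.card_map_of_injective (conjR_injective g)]
    refine hA.off.trans (Nat.mul_le_mul_left _ ?_)
    refine Nat.card_le_card_of_injective (fun v : ann hpV A => (⟨g • (v : V), ?_⟩ :
      ann hpV (A.map (conjR p V g)))) fun u v h => Subtype.ext (MulAction.injective g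
        (congrArg (fun x : ann hpV (A.map (conjR p V g)) => (x : V)) h))
    rintro _ ⟨a, ha, rfl⟩
    have e : ∀ v : V, rep p V g * vec hpV v = vec hpV (g • v) := fun v => by
      rw [← one_add_dev, add_mul, one_mul, dev_mul_vec, ← map_add, add_sub_cancel]
    rw [← e, conjR_apply]
    simp only [mul_assoc]
    rw [← mul_assoc (rep p V g⁻¹) (rep p V g), rep_inv_mul, one_mul, v.2 a ha, mul_zero]

theorem conjR_mem_lev (g : Γ) {i : ℕ} {a : Big p V} (ha : a ∈ lev p Γ V i) :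
    conjR p V g a ∈ lev p Γ V i := by
  rw [conjR_apply, ← one_add_dev g, ← one_add_dev g⁻¹]
  have h1 : a * (1 + dev p V g⁻¹) ∈ lev p Γ V i := by
    rw [mul_add, mul_one]
    exact add_mem ha ((lowers_lev g⁻¹).anti i ((lowers_lev g⁻¹).right i a ha))
  rw [add_mul, one_mul]
  exact add_mem h1 ((lowers_lev g).anti i ((lowers_lev g).left i _ h1))

theorem depth_le_map [Fact p.Prime] (g : Γ) (N : ℕ) (A : AddSubgroup (Big p V)) :
    depth p Γ V N A ≤ depth p Γ V N (A.map (conjR p V g)) := by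
  haveI : NeZero p := ⟨(Fact.out : p.Prime).ne_zero⟩
  refine Finset.sum_le_sum fun i _ => ?_
  exact Nat.card_le_card_of_injective
    (fun a : ↥(A ⊓ lev p Γ V i) => (⟨conjR p V g a, ⟨a, (AddSubgroup.mem_inf.mp a.2).1, rfl⟩,
      conjR_mem_lev g (AddSubgroup.mem_inf.mp a.2).2⟩ : ↥(A.map (conjR p V g) ⊓ lev p Γ V i)))
    fun u v h => Subtype.ext (conjR_injective g (congrArg Subtype.val h))

/-- Deepest among the quadratic offenders. -/
def IsDeepest (Γ : Type*) [Group Γ] [DistribMulAction Γ V] (hpV : ∀ v : V, p • v = 0) (N : ℕ)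
    (A : AddSubgroup (Big p V)) : Prop :=
  Good Γ hpV A ∧ ∀ B, Good Γ hpV B → depth p Γ V N B ≤ depth p Γ V N A

theorem isDeepest_map [Fact p.Prime] {hpV : ∀ v : V, p • v = 0} {N : ℕ} {A : AddSubgroup (Big p V)}
    (hA : IsDeepest Γ hpV N A) (g : Γ) : IsDeepest Γ hpV N (A.map (conjR p V g)) :=
  ⟨good_map hA.1 g, fun B hB => (hA.2 B hB).trans (depth_le_map g N A)⟩

/-- The limit of a quadratic offender is one. -/
theorem fixed_of_deepest [Fact p.Prime] (hodd : Odd p) {hpV : ∀ v : V, p • v = 0} {N : ℕ}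
    (hN : series p Γ V N = ⊤) {A : AddSubgroup (Big p V)} (hA : IsDeepest Γ hpV N A) {x : Γ}
    (hx : dev p V x * dev p V x = 0) {S : AddSubgroup (Big p V)}
    (hsw : ∀ a ∈ A, a ∈ S ∧ brk (dev p V x) a ∈ S ∧ dev p V x * a * dev p V x ∈ S)
    (hSU : ∀ y ∈ S, y * y = 0 → 1 + y ∈ unitsOf p Γ V) :
    ∀ a ∈ A, conjR p V x a ∈ A := by
  haveI : NeZero p := ⟨(Fact.out : p.Prime).ne_zero⟩
  set D := dev p V x with hD
  have hstable : ∀ a ∈ A, brk D a ∈ A := by
    by_contra hne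
    obtain ⟨i, hi, hlt⟩ := exists_lim_gain hodd (fun a => big_nsmul hpV a) hx (lowers_lev x)
      (lev_eq_bot hN) hA.1.le_lev hne
    have hcard : Nat.card A ≤ Nat.card (lim A D) := card_le_card_lim A hx
    have hgood : Good Γ hpV (lim A D) := by
      refine ⟨zeroProd_lim hx hA.1.zp, fun y hy => hSU y (lim_le hsw hy)
        (zeroProd_lim hx hA.1.zp y hy y hy), fun h => ?_, hA.1.off.trans (Nat.mul_le_mul hcard ?_)⟩
      · refine hA.1.ne (AddSubgroup.eq_bot_of_card_le _ ?_)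
        rw [h, AddSubgroup.card_bot] at hcard
        exact hcard
      · set K := (ann hpV A).map (vec hpV) with hK
        have hKcard : Nat.card K = Nat.card (ann hpV A) :=
          AddSubgroup.card_map_of_injective (vec_injective hpV)
        have hAK : ∀ a ∈ A, ∀ b ∈ K, a * b = 0 := by
          rintro a ha _ ⟨v, hv, rfl⟩; exact hv a ha
        have hle : limR K D ≤ (ann hpV (lim A D)).map (vec hpV) := by
          intro c hc
          have hmem : limR K D ≤ (vec hpV).range := limR_le (by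
            rintro _ ⟨v, -, rfl⟩
            exact ⟨⟨v, rfl⟩, ⟨x • v - v, by rw [hD, dev_mul_vec]⟩⟩)
          obtain ⟨v, rfl⟩ := hmem hc
          exact ⟨v, fun a ha => lim_mul_limR hx hAK a ha _ hc, rfl⟩
        calc Nat.card (ann hpV A) = Nat.card K := hKcard.symm
          _ ≤ Nat.card (limR K D) := card_le_card_limR K hx
          _ ≤ Nat.card ((ann hpV (lim A D)).map (vec hpV)) := AddSubgroup.card_le_of_le hle
          _ = _ := AddSubgroup.card_map_of_injective (vec_injective hpV)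
    refine absurd (hA.2 _ hgood) (not_le.mpr ?_)
    exact Finset.sum_lt_sum (fun j _ => card_inf_le_lim hx (lowers_lev x) j)
      ⟨i, Finset.mem_range.mpr hi, hlt⟩
  intro a ha
  rw [conjR_eq hx, ← hD]
  have h2 : D * a * D ∈ A := mem_of_two_nsmul hodd (fun a => big_nsmul hpV a) (by
    have := neg_mem (hstable _ (hstable a ha))
    rwa [brk_brk hx, neg_neg] at this)
  convert sub_mem (add_mem ha (hstable a ha)) h2 using 1
  simp only [brk, add_mul, one_mul, mul_sub, mul_one, mul_assoc]; abel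

/-- The subgroup of a quadratic subgroup of the ring. -/
def grp {A : AddSubgroup (Big p V)} (hA : ZeroProd A) : Subgroup Γ where
  carrier := {g | dev p V g ∈ A}
  one_mem' := by show dev p V (1 : Γ) ∈ A; rw [dev_one]; exact zero_mem A
  mul_mem' {g h} (hg : dev p V g ∈ A) (hh : dev p V h ∈ A) := by
    show dev p V (g * h) ∈ A
    rw [dev_mul, hA _ hg _ hh, add_zero]; exact add_mem hg hh
  inv_mem' {g} (hg : dev p V g ∈ A) := by
    show dev p V g⁻¹ ∈ A
    have e : dev p V g⁻¹ = -dev p V g := by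
      rw [dev, ← one_sub_dev_eq (hA _ hg _ hg)]; abel
    rw [e]; exact neg_mem hg

theorem mem_grp {A : AddSubgroup (Big p V)} (hA : ZeroProd A) {g : Γ} :
    g ∈ (grp hA : Subgroup Γ) ↔ dev p V g ∈ A := Iff.rfl

/-- The stabiliser of a subgroup of the ring. -/
def stabR [Fact p.Prime] (A : AddSubgroup (Big p V)) : Subgroup Γ where
  carrier := {g | ∀ a, a ∈ A ↔ conjR p V g a ∈ A}
  one_mem' a := by rw [conjR_one]
  mul_mem' {g h} hg hh a := by rw [← conjR_conjR, ← hg, ← hh]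
  inv_mem' {g} hg a := by rw [hg (conjR p V g⁻¹ a), conjR_conjR, mul_inv_cancel, conjR_one]

theorem mem_stabR [Fact p.Prime] {A : AddSubgroup (Big p V)} {g : Γ}
    (h : ∀ a ∈ A, conjR p V g a ∈ A) : g ∈ (stabR A : Subgroup Γ) := by
  haveI : NeZero p := ⟨(Fact.out : p.Prime).ne_zero⟩
  intro a
  refine ⟨h a, fun ha => ?_⟩
  have he : A.map (conjR p V g) = A := AddSubgroup.eq_of_le_of_card_ge
    (by rintro _ ⟨b, hb, rfl⟩; exact h b hb)
    (by rw [AddSubgroup.card_map_of_injective (conjR_injective g)])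
  obtain ⟨b, hb, e⟩ : conjR p V g a ∈ A.map (conjR p V g) := he.symm ▸ ha
  exact conjR_injective g e ▸ hb

theorem norms_iff [Fact p.Prime] {A B : AddSubgroup (Big p V)} (hB : ZeroProd B)
    (hU : InU (unitsOf p Γ V) B) :
    NormsRing B A ↔ (grp hB : Subgroup Γ) ≤ stabR A := by
  constructor
  · intro h g hg
    refine mem_stabR fun a ha => ?_
    rw [conjR_eq (hB _ hg _ hg)]
    exact h _ hg a ha
  · intro h b hb a ha
    obtain ⟨g, rfl⟩ := exists_dev hU hb
    rw [← conjR_eq (hB _ hb _ hb)]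
    exact (h (show g ∈ (grp hB : Subgroup Γ) from hb) a).mp ha

theorem norms_self {A : AddSubgroup (Big p V)} (hA : ZeroProd A) : NormsRing A A := by
  intro b hb a ha
  rw [add_mul, one_mul, hA b hb a ha, add_zero, mul_sub, mul_one, hA a ha b hb, sub_zero]
  exact ha

/-- The conjugates of a deepest quadratic offender normalise one another. -/
theorem pairwise_norms [Fact p.Prime] [FaithfulSMul Γ V] (hodd : Odd p) (hΓ : IsPGroup p Γ)
    {hpV : ∀ v : V, p • v = 0} {N : ℕ} (hN : series p Γ V N = ⊤) {A₀ : AddSubgroup (Big p V)}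
    (hA₀ : IsDeepest Γ hpV N A₀) (g h : Γ) :
    NormsRing (A₀.map (conjR p V g)) (A₀.map (conjR p V h)) := by
  haveI : NeZero p := ⟨(Fact.out : p.Prime).ne_zero⟩
  haveI := hΓ.isNilpotent
  set C := Set.range fun g : Γ => A₀.map (conjR p V g) with hC
  have hdeep : ∀ X ∈ C, IsDeepest Γ hpV N X := by rintro _ ⟨g, rfl⟩; exact isDeepest_map hA₀ g
  have hmap : ∀ X ∈ C, ∀ k : Γ, X.map (conjR p V k) ∈ C := by
    rintro _ ⟨g, rfl⟩ k
    refine ⟨k * g, ?_⟩
    show A₀.map (conjR p V (k * g)) = (A₀.map (conjR p V g)).map (conjR p V k)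
    rw [AddSubgroup.map_map]
    exact congrArg (A₀.map ·) (AddMonoidHom.ext fun a => (conjR_conjR k g a).symm)
  have hchar : ∀ a : Big p V, p • a = 0 := fun a => big_nsmul hpV a
  -- symmetry
  have hsymm : ∀ X ∈ C, ∀ Y ∈ C, NormsRing Y X → NormsRing X Y := by
    intro X hX Y hY hYX
    have gX := (hdeep X hX).1
    have gY := (hdeep Y hY).1
    rw [norms_iff gX.zp gX.inU]
    intro x hx
    refine mem_stabR (fixed_of_deepest hodd hN (hdeep Y hY) (gX.zp _ hx _ hx)
      (fun b hb => pair_swept hodd hchar gX.zp hYX hx hb) fun y hy hyy => ?_)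
    exact one_add_mem_pair hodd hchar gY.zp gX.inU gY.inU hYX hy hyy gX.zp
  obtain ⟨D, ⟨hDC, hD⟩, hmax⟩ := (Set.toFinite
    {D : Set (AddSubgroup (Big p V)) | D ⊆ C ∧ ∀ X ∈ D, ∀ Y ∈ D, NormsRing X Y}).exists_maximal
    ⟨∅, Set.empty_subset _, fun X hX => absurd hX (Set.notMem_empty X)⟩
  by_cases hall : C ⊆ D
  · exact hD _ (hall ⟨g, rfl⟩) _ (hall ⟨h, rfl⟩)
  exfalso
  have hins : ∀ Y ∈ C, (∀ X ∈ D, NormsRing Y X) → Y ∈ D := by
    intro Y hY hn
    refine hmax (y := insert Y D) ⟨Set.insert_subset hY hDC, ?_⟩ (Set.subset_insert _ _)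
      (Set.mem_insert _ _)
    intro X hX' Z hZ'
    rcases Set.mem_insert_iff.mp hX' with e | hX <;> rcases Set.mem_insert_iff.mp hZ' with e' | hZ
    · rw [e, e']; exact norms_self (hdeep Y hY).1.zp
    · rw [e]; exact hn Z hZ
    · rw [e']; exact hsymm X (hDC hX) Y hY (hn X hX)
    · exact hD X hX Z hZ
  set M : Subgroup Γ := ⨆ X : {X // X ∈ D}, grp (hdeep X.1 (hDC X.2)).1.zp with hM
  have hMle : ∀ X (hX : X ∈ D), (grp (hdeep X (hDC hX)).1.zp : Subgroup Γ) ≤ M :=
    fun X hX => le_iSup (fun X : {X // X ∈ D} => (grp (hdeep X.1 (hDC X.2)).1.zp : Subgroup Γ)) ⟨X, hX⟩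
  have hMstab : ∀ X ∈ D, M ≤ stabR X := fun X hX => iSup_le fun Z =>
    (norms_iff _ (hdeep Z.1 (hDC Z.2)).1.inU).mp (hD Z.1 Z.2 X hX)
  have hinM : ∀ Y (hY : Y ∈ C), (grp (hdeep Y hY).1.zp : Subgroup Γ) ≤ M → Y ∈ D := fun Y hY hle =>
    hins Y hY fun X hX => (norms_iff _ (hdeep Y hY).1.inU).mpr (hle.trans (hMstab X hX))
  have hconjmem : ∀ X (hX : X ∈ C) (k : Γ), ∀ z ∈ (grp (hdeep X hX).1.zp : Subgroup Γ),
      k * z * k⁻¹ ∈ (grp (hdeep _ (hmap X hX k)).1.zp : Subgroup Γ) := fun X hX k z hz =>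
    ⟨dev p V z, hz, conjR_dev k z⟩
  have hconj : ∀ X (hX : X ∈ C) (k : Γ) (K : Subgroup Γ),
      (∀ z ∈ (grp (hdeep X hX).1.zp : Subgroup Γ), k * z * k⁻¹ ∈ K) →
      (grp (hdeep _ (hmap X hX k)).1.zp : Subgroup Γ) ≤ K := by
    intro X hX k K hK z hz
    obtain ⟨a, ha, e⟩ := (mem_grp _).mp hz
    obtain ⟨w, rfl⟩ := exists_dev (hdeep X hX).1.inU ha
    rw [conjR_dev] at e
    have hz' : z = k * w * k⁻¹ := rep_injective (p := p) (V := V) (by
      rw [← one_add_dev, ← one_add_dev, e])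
    exact hz' ▸ hK w ha
  set Nm := Subgroup.normalizer (M : Set Γ) with hNm
  obtain ⟨Y, hY, hYN, hYD⟩ : ∃ Y, ∃ hY : Y ∈ C,
      (grp (hdeep Y hY).1.zp : Subgroup Γ) ≤ Nm ∧ Y ∉ D := by
    by_contra hno
    push Not at hno
    refine hall fun Y hY => hno Y hY ?_
    suffices Nm = ⊤ by rw [this]; exact le_top
    refine normalizerCondition_iff_only_full_group_self_normalizing.mp
      Group.normalizerCondition_of_isNilpotent Nm (le_antisymm (fun k hk => ?_) Subgroup.le_normalizer)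
    have hle : M.map (MulAut.conj k).toMonoidHom ≤ M := by
      rw [Subgroup.map_le_iff_le_comap, hM]
      refine iSup_le fun X z hz => ?_
      have hXk : X.1.map (conjR p V k) ∈ D := hno _ (hmap X.1 (hDC X.2) k)
        (hconj X.1 (hDC X.2) k Nm fun w hw =>
          (Subgroup.mem_normalizer_iff.mp hk w).mp (Subgroup.le_normalizer (hMle X.1 X.2 hw)))
      exact Subgroup.mem_comap.mpr (hMle _ hXk (hconjmem X.1 (hDC X.2) k z hz))
    have he : M.map (MulAut.conj k).toMonoidHom = M := Subgroup.eq_of_le_of_card_ge hle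
      (by rw [Subgroup.card_map_of_injective (MulAut.conj k).injective])
    refine Subgroup.mem_normalizer_iff.mpr fun z => ⟨fun hz => ?_, fun hz => ?_⟩
    · exact he.le ⟨z, hz, rfl⟩
    · obtain ⟨w, hw, e⟩ := he.ge hz
      have e' : k * w * k⁻¹ = k * z * k⁻¹ := e
      rwa [mul_left_cancel (mul_right_cancel e')] at hw
  refine hYD (hins Y hY fun X hX => ?_)
  have gY := (hdeep Y hY).1
  rw [norms_iff gY.zp gY.inU]
  intro x hx
  have hxx : dev p V x * dev p V x = 0 := gY.zp _ hx _ hx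
  have hmem : ∀ k ∈ Nm, X.map (conjR p V k) ∈ D := fun k hk => hinM _ (hmap X (hDC hX) k)
    (hconj X (hDC hX) k M fun z hz => (Subgroup.mem_normalizer_iff.mp hk z).mp (hMle X hX hz))
  have h1 := hmem x (hYN hx)
  have h2 := hmem x⁻¹ (inv_mem (hYN hx))
  have gX := (hdeep X (hDC hX)).1
  have g1 := (hdeep _ (hDC h1)).1
  have g2 := (hdeep _ (hDC h2)).1
  refine mem_stabR (fixed_of_deepest hodd hN (hdeep X (hDC hX)) hxx
    (fun a ha => triple_swept (A₁ := X.map (conjR p V x)) (A₂ := X.map (conjR p V x⁻¹)) hodd hchar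
      (fun b hb => ⟨b, hb, conjR_eq hxx b⟩)
      (fun b hb => ⟨b, hb, ?_⟩) ha) fun y hy hyy => one_add_mem_triple hodd hchar gX.zp g1.zp g2.zp
        gX.inU g1.inU g2.inU (hD _ h1 _ hX) (hD _ h2 _ hX) (hD _ h1 _ h2) (hD _ h2 _ h1) hy hyy)
  rw [conjR_apply, inv_inv, ← one_sub_dev_eq hxx, ← one_add_dev x, mul_assoc]

/-- A quadratic offender whose conjugates normalise it. -/
theorem exists_offender [Fact p.Prime] [FaithfulSMul Γ V] (hodd : Odd p) (hΓ : IsPGroup p Γ)
    (hpV : ∀ v : V, p • v = 0) {E : Subgroup Γ} (hE : E ≠ ⊥)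
    (hab : ∀ a ∈ E, ∀ b ∈ E, Commute a b) (hpow : ∀ a ∈ E, a ^ p = 1)
    (hoff : Nat.card V ≤ Nat.card E * Nat.card (PGV.fix V E)) :
    ∃ A : Subgroup Γ, A ≠ ⊥ ∧ (∀ a ∈ A, ∀ b ∈ A, Commute a b) ∧ (∀ a ∈ A, a ^ p = 1) ∧
      Nat.card V ≤ Nat.card A * Nat.card (PGV.fix V A) ∧
      (∀ a ∈ A, ∀ b ∈ A, ∀ v : V, b • (a • v - v) = a • v - v) ∧
      ∀ g : Γ, ∀ a ∈ A, ∀ b ∈ A, g * a * g⁻¹ * b * (g * a * g⁻¹)⁻¹ ∈ A := by
  classical
  haveI : NeZero p := ⟨(Fact.out : p.Prime).ne_zero⟩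
  obtain ⟨N, hN⟩ := exists_series_eq_top (Γ := Γ) hΓ hpV
  -- a first quadratic offender
  obtain ⟨B, ⟨hBE, hB0⟩, hBmax⟩ := Set.Finite.exists_maximalFor
    (fun B : Subgroup Γ => Nat.card B * Nat.card (PGV.fix V B)) {B | B ≤ E ∧ B ≠ ⊥} (Set.toFinite _)
    ⟨E, le_rfl, hE⟩
  have hbot : Nat.card (⊥ : Subgroup Γ) * Nat.card (PGV.fix V (⊥ : Subgroup Γ)) = Nat.card V := by
    have e : PGV.fix V (⊥ : Subgroup Γ) = ⊤ := eq_top_iff.mpr fun v _ g hg => by
      rw [Subgroup.mem_bot.mp hg, one_smul]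
    rw [e, Subgroup.card_bot, one_mul, AddSubgroup.card_top]
  have hBV : Nat.card V ≤ Nat.card B * Nat.card (PGV.fix V B) :=
    hoff.trans (le_of_not_gt fun hlt => (not_le.mpr hlt) (hBmax ⟨le_rfl, hE⟩ hlt.le))
  have hbest : PGV.Best V B := by
    intro C hC
    by_cases hC0 : C = ⊥
    · rw [hC0, hbot]; exact hBV
    · exact le_of_not_gt fun hlt => (not_le.mpr hlt) (hBmax ⟨hC.trans hBE, hC0⟩ hlt.le)
  obtain ⟨Q, hQB, hQ0, hQbest, hQq⟩ := PGV.replacement hpV (fun a ha b hb => hab a (hBE ha) b (hBE hb))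
    (fun a ha => hpow a (hBE ha)) hB0 hbest
  have hQV : Nat.card V ≤ Nat.card Q * Nat.card (PGV.fix V Q) := hbot ▸ hQbest ⊥ bot_le
  have hQz : ∀ a ∈ Q, ∀ b ∈ Q, dev p V a * dev p V b = 0 := by
    intro a ha b hb
    refine big_ext fun w => ?_
    rw [big_mul, dev_apply, dev_apply]
    exact Prod.ext rfl (sub_eq_zero.mpr (hQq a ha b (hQB hb) w.2))
  let Q' : AddSubgroup (Big p V) :=
    { carrier := dev p V '' (Q : Set Γ)
      zero_mem' := ⟨1, Q.one_mem, dev_one⟩
      add_mem' := by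
        rintro _ _ ⟨a, ha, rfl⟩ ⟨b, hb, rfl⟩
        exact ⟨a * b, Q.mul_mem ha hb, by rw [dev_mul, hQz a ha b hb, add_zero]⟩
      neg_mem' := by
        rintro _ ⟨a, ha, rfl⟩
        exact ⟨a⁻¹, Q.inv_mem ha, by rw [dev, ← one_sub_dev_eq (hQz a ha a ha)]; abel⟩ }
  have hdevinj : Function.Injective (dev p V : Γ → Big p V) := fun a b h =>
    rep_injective (p := p) (V := V) (sub_left_inj.mp h)
  have hvec : ∀ (g : Γ) (v : V), dev p V g * vec hpV v = 0 ↔ g • v = v := fun g v => by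
    rw [dev_mul_vec, map_eq_zero_iff _ (vec_injective hpV), sub_eq_zero]
  have hQ'card : Nat.card Q' = Nat.card Q := Nat.card_image_of_injective hdevinj (Q : Set Γ)
  have hQ'ann : ann hpV Q' = PGV.fix V Q := by
    ext v
    exact ⟨fun h g hg => (hvec g v).mp (h _ ⟨g, hg, rfl⟩),
      fun h => by rintro _ ⟨g, hg, rfl⟩; exact (hvec g v).mpr (h g hg)⟩
  have hQ'good : Good Γ hpV Q' := by
    refine ⟨?_, ?_, fun h => ?_, by rw [hQ'card, hQ'ann]; exact hQV⟩
    · rintro _ ⟨a, ha, rfl⟩ _ ⟨b, hb, rfl⟩; exact hQz a ha b hb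
    · rintro _ ⟨a, ha, rfl⟩; exact MonoidHom.mem_mrange.mpr ⟨a, (one_add_dev a).symm⟩
    · rw [h, AddSubgroup.card_bot] at hQ'card
      exact hQ0 (Subgroup.card_eq_one.mp hQ'card.symm)
  -- the deepest one
  obtain ⟨A, hA, hAmax⟩ := Set.Finite.exists_maximalFor
    (depth p Γ V N) {A : AddSubgroup (Big p V) | Good Γ hpV A} (Set.toFinite _) ⟨Q', hQ'good⟩
  have hdeep : IsDeepest Γ hpV N A :=
    ⟨hA, fun B hB => le_of_not_gt fun hlt => (not_le.mpr hlt) (hAmax hB hlt.le)⟩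
  have hzA := hA.zp
  have hcard : Nat.card (grp hzA : Subgroup Γ) = Nat.card A := by
    refine Nat.card_congr (Equiv.ofBijective (fun g => ⟨dev p V g.1, g.2⟩) ⟨fun a b h =>
      Subtype.ext (hdevinj (congrArg Subtype.val h)), fun a => ?_⟩)
    obtain ⟨g, hg⟩ := exists_dev hA.inU a.2
    exact ⟨⟨g, show dev p V g ∈ A from hg.symm ▸ a.2⟩, Subtype.ext hg⟩
  have hfix : ann hpV A ≤ PGV.fix V (grp hzA : Subgroup Γ) := fun v hv g hg =>
    (hvec g v).mp (hv _ hg)
  have hquad : ∀ a ∈ (grp hzA : Subgroup Γ), ∀ b ∈ (grp hzA : Subgroup Γ), ∀ v : V,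
      b • (a • v - v) = a • v - v := by
    intro a ha b hb v
    have h := DFunLike.congr_fun (hzA _ hb _ ha) ((0 : ZMod p), v)
    rw [big_mul, dev_apply, dev_apply] at h
    exact sub_eq_zero.mp (congrArg Prod.snd h)
  have hmul : ∀ a ∈ (grp hzA : Subgroup Γ), ∀ b ∈ (grp hzA : Subgroup Γ),
      dev p V (a * b) = dev p V a + dev p V b := fun a ha b hb => by
    rw [dev_mul, hzA _ ha _ hb, add_zero]
  refine ⟨grp hzA, fun h => ?_, fun a ha b hb => hdevinj ?_, fun a ha => hdevinj ?_, ?_, hquad, ?_⟩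
  · rw [h, Subgroup.card_bot] at hcard
    exact hA.ne (AddSubgroup.eq_bot_of_card_le _ hcard.symm.le)
  · rw [hmul a ha b hb, hmul b hb a ha, add_comm]
  · have hpw : ∀ n : ℕ, dev p V (a ^ n) = n • dev p V a := by
      intro n
      induction n with
      | zero => rw [pow_zero, dev_one, zero_nsmul]
      | succ n ih => rw [pow_succ, hmul _ (pow_mem ha n) a ha, ih, succ_nsmul]
    rw [hpw, big_nsmul hpV, dev_one]
  · rw [hcard]
    exact hA.off.trans (Nat.mul_le_mul_left _ (AddSubgroup.card_le_of_le hfix))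
  · intro g a ha b hb
    have hgood := good_map hA g
    have hmap1 : A.map (conjR p V (1 : Γ)) = A := by
      ext z; simp [AddSubgroup.mem_map, conjR_one]
    have h := pairwise_norms hodd hΓ hN hdeep g 1
    rw [hmap1, norms_iff hgood.zp hgood.inU] at h
    have hc : g * a * g⁻¹ ∈ (stabR A : Subgroup Γ) := h ⟨dev p V a, ha, conjR_dev g a⟩
    show dev p V _ ∈ A
    rw [← conjR_dev]
    exact (hc _).mp hb

end

end Cfsg.Agent.QuadNormal
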