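import Cfsg.Agent.QuadNormal.Closure
import Cfsg.Agent.PGV.Basic

/-!
# A representation carrying the vectors as endomorphisms

A group acting on an elementary abelian group `V` acts on `ZMod p × V`; in its endomorphism ring
each vector gives a rank one endomorphism.  A fixed-point series of a `p`-group gives a filtration
of this ring.
-/

set_option autoImplicit false
set_option linter.unusedSectionVars false

namespace Cfsg.Agent.QuadNormal

noncomputable section

/-- The ring of endomorphisms of the enlarged module. -/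
abbrev Big (p : ℕ) (V : Type*) [AddCommGroup V] := AddMonoid.End (ZMod p × V)

variable {p : ℕ} {V : Type*} [AddCommGroup V]

theorem big_ext {a b : Big p V} (h : ∀ w, a w = b w) : a = b := AddMonoidHom.ext h

theorem big_mul (a b : Big p V) (w : ZMod p × V) : (a * b) w = a (b w) := rfl

theorem big_one (w : ZMod p × V) : (1 : Big p V) w = w := rfl

theorem big_sub (a b : Big p V) (w : ZMod p × V) : (a - b) w = a w - b w := rfl

theorem big_nsmul (hpV : ∀ v : V, p • v = 0) (a : Big p V) : p • a = 0 := by
  refine big_ext fun w => ?_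
  show p • a w = 0
  exact Prod.ext (by simp) (hpV _)

instance big_finite [NeZero p] [Finite V] : Finite (Big p V) :=
  Finite.of_injective (fun a : Big p V => (a : ZMod p × V → ZMod p × V)) DFunLike.coe_injective

section Vec

variable (hpV : ∀ v : V, p • v = 0)

/-- The multiples of a vector. -/
def lift₁ (v : V) : ZMod p →+ V :=
  ZMod.lift p ⟨zmultiplesHom V v, by simpa using hpV v⟩

theorem lift₁_one (v : V) : lift₁ hpV v 1 = v := by
  rw [show (1 : ZMod p) = ((1 : ℤ) : ZMod p) by simp, lift₁, ZMod.lift_coe]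
  simp

theorem hom_ext₁ {f g : ZMod p →+ V} (h : f 1 = g 1) : f = g := by
  refine AddMonoidHom.ext fun x => ?_
  obtain ⟨n, rfl⟩ := ZMod.intCast_surjective x
  rw [← zsmul_one, map_zsmul, map_zsmul, h]

/-- A vector as a rank one endomorphism. -/
def vec : V →+ Big p V where
  toFun v := (AddMonoidHom.inr (ZMod p) V).comp ((lift₁ hpV v).comp (AddMonoidHom.fst (ZMod p) V))
  map_zero' := big_ext fun w => Prod.ext rfl (by
    show lift₁ hpV 0 w.1 = 0
    rw [hom_ext₁ (f := lift₁ hpV 0) (g := 0) (lift₁_one hpV 0)]; rfl)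
  map_add' u v := big_ext fun w => Prod.ext (show (0 : ZMod p) = 0 + 0 from (add_zero 0).symm) (by
    show lift₁ hpV (u + v) w.1 = lift₁ hpV u w.1 + lift₁ hpV v w.1
    rw [hom_ext₁ (f := lift₁ hpV (u + v)) (g := lift₁ hpV u + lift₁ hpV v)
      (by simp [lift₁_one])]; rfl)

theorem vec_apply (v : V) (w : ZMod p × V) : vec hpV v w = (0, lift₁ hpV v w.1) := rfl

theorem vec_injective : Function.Injective (vec hpV) := by
  intro u v h
  have := congrArg (fun a : Big p V => (a (1, 0)).2) h
  simpa [vec_apply, lift₁_one] using this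

end Vec

variable {Γ : Type*} [Group Γ] [DistribMulAction Γ V]

/-- The representation. -/
def rep (p : ℕ) (V : Type*) [AddCommGroup V] [DistribMulAction Γ V] : Γ →* Big p V where
  toFun g := (AddMonoidHom.id (ZMod p)).prodMap (DistribMulAction.toAddMonoidEnd Γ V g)
  map_one' := big_ext fun w => Prod.ext rfl (one_smul Γ w.2)
  map_mul' g h := big_ext fun w => Prod.ext rfl (mul_smul g h w.2)

theorem rep_apply (g : Γ) (w : ZMod p × V) : rep p V g w = (w.1, g • w.2) := rfl

theorem rep_injective [FaithfulSMul Γ V] : Function.Injective (rep p V : Γ → Big p V) := by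
  intro g h e
  refine eq_of_smul_eq_smul fun v : V => ?_
  exact congrArg Prod.snd (DFunLike.congr_fun e ((0 : ZMod p), v))

/-- The deviation from the identity. -/
def dev (p : ℕ) (V : Type*) [AddCommGroup V] [DistribMulAction Γ V] (g : Γ) : Big p V :=
  rep p V g - 1

theorem dev_apply (g : Γ) (w : ZMod p × V) : dev p V g w = (0, g • w.2 - w.2) := by
  rw [dev, big_sub, big_one, rep_apply]
  exact Prod.ext (sub_self _) rfl

theorem dev_mul_vec (hpV : ∀ v : V, p • v = 0) (g : Γ) (v : V) :
    dev p V g * vec hpV v = vec hpV (g • v - v) := by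
  refine big_ext fun w => ?_
  rw [big_mul, vec_apply, dev_apply, vec_apply]
  refine Prod.ext rfl ?_
  obtain ⟨n, hn⟩ := ZMod.intCast_surjective w.1
  show g • lift₁ hpV v w.1 - lift₁ hpV v w.1 = lift₁ hpV (g • v - v) w.1
  rw [← hn, ← zsmul_one, map_zsmul, map_zsmul, lift₁_one, lift₁_one,
    show g • n • v = n • (g • v) from map_zsmul (DistribSMul.toAddMonoidHom V g) n v, zsmul_sub]

theorem dev_mul (g h : Γ) :
    dev p V (g * h) = dev p V g + dev p V h + dev p V g * dev p V h := by
  simp only [dev, map_mul, sub_mul, mul_sub, one_mul, mul_one]; abel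

theorem dev_one : dev p V (1 : Γ) = 0 := by rw [dev, map_one, sub_self]

theorem one_add_dev (g : Γ) : 1 + dev p V g = rep p V g := by rw [dev]; abel

theorem one_sub_dev_eq {g : Γ} (h : dev p V g * dev p V g = 0) :
    1 - dev p V g = rep p V g⁻¹ := by
  have e : rep p V g * (1 - dev p V g) = 1 := by
    rw [← one_add_dev, mul_sub, mul_one, add_mul, one_mul, h]; abel
  calc 1 - dev p V g = rep p V g⁻¹ * (rep p V g * (1 - dev p V g)) := by
        rw [← mul_assoc, ← map_mul, inv_mul_cancel, map_one, one_mul]
    _ = _ := by rw [e, mul_one]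

/-- The fixed-point series. -/
def series (p : ℕ) (Γ : Type*) [Group Γ] (V : Type*) [AddCommGroup V] [DistribMulAction Γ V] :
    ℕ → AddSubgroup (ZMod p × V)
  | 0 => ⊥
  | j + 1 => ⨅ g : Γ, (series p Γ V j).comap (dev p V g : (ZMod p × V) →+ (ZMod p × V))

theorem mem_series_succ {j : ℕ} {w : ZMod p × V} :
    w ∈ series p Γ V (j + 1) ↔ ∀ g : Γ, dev p V g w ∈ series p Γ V j := by
  simp only [series, AddSubgroup.mem_iInf]; rfl

theorem series_le_succ : ∀ j, series p Γ V j ≤ series p Γ V (j + 1)
  | 0 => bot_le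
  | j + 1 => fun _ hw => mem_series_succ.mpr fun g =>
      series_le_succ j (mem_series_succ.mp hw g)

theorem series_mono : Monotone (series p Γ V) := monotone_nat_of_le_succ series_le_succ

theorem exists_series_eq_top [Fact p.Prime] [Finite V] (hΓ : IsPGroup p Γ)
    (hpV : ∀ v : V, p • v = 0) : ∃ N, series p Γ V N = ⊤ := by
  obtain ⟨j, hj⟩ := WellFoundedGT.monotone_chain_condition
    (⟨series p Γ V, series_mono⟩ : ℕ →o AddSubgroup (ZMod p × V))
  refine ⟨j, ?_⟩
  have hjj : series p Γ V (j + 1) = series p Γ V j := (hj (j + 1) (by omega)).symm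
  set S := series p Γ V j with hS
  have hinv : ∀ (g : Γ) (w : ZMod p × V), w ∈ S → rep p V g w ∈ S := by
    intro g w hw
    have h1 : dev p V g w ∈ S := by
      have h2 : w ∈ series p Γ V (j + 1) := series_le_succ j hw
      exact mem_series_succ.mp h2 g
    rw [← one_add_dev]
    exact add_mem hw h1
  letI : MulAction Γ ((ZMod p × V) ⧸ S) :=
    { smul := fun g => QuotientAddGroup.map S S (rep p V g) fun w hw => hinv g w hw
      one_smul := fun q => by
        induction q using QuotientAddGroup.induction_on with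
        | H w => show ((rep p V (1 : Γ) w : ZMod p × V) : (ZMod p × V) ⧸ S) = _; rw [map_one]; rfl
      mul_smul := fun g h q => by
        induction q using QuotientAddGroup.induction_on with
        | H w =>
          show ((rep p V (g * h) w : ZMod p × V) : (ZMod p × V) ⧸ S) = _
          rw [map_mul]; rfl }
  by_contra hne
  haveI : Nontrivial ((ZMod p × V) ⧸ S) := by
    obtain ⟨w, hw⟩ : ∃ w, w ∉ S := by
      by_contra hall
      push Not at hall
      exact hne (eq_top_iff.mpr fun w _ => hall w)
    exact nontrivial_of_ne (w : (ZMod p × V) ⧸ S) 0 fun e =>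
      hw ((QuotientAddGroup.eq_zero_iff w).mp e)
  haveI : NeZero p := ⟨(Fact.out : p.Prime).ne_zero⟩
  have hdvd : p ∣ Nat.card ((ZMod p × V) ⧸ S) := by
    obtain ⟨x, hx⟩ := exists_ne (0 : (ZMod p × V) ⧸ S)
    have hord : addOrderOf x = p := by
      refine addOrderOf_eq_prime ?_ hx
      induction x using QuotientAddGroup.induction_on with
      | H w =>
        rw [← QuotientAddGroup.mk_nsmul, show p • w = 0 from Prod.ext (by simp) (hpV _)]
        rfl
    have h := addOrderOf_dvd_natCard x
    rwa [hord] at h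
  have h0 : (0 : (ZMod p × V) ⧸ S) ∈ MulAction.fixedPoints Γ ((ZMod p × V) ⧸ S) :=
    fun g => map_zero (QuotientAddGroup.map S S (rep p V g) fun w hw => hinv g w hw)
  obtain ⟨q, hq, hq0⟩ := hΓ.exists_fixed_point_of_prime_dvd_card_of_fixed_point _ hdvd h0
  induction q using QuotientAddGroup.induction_on with
  | H w =>
    refine hq0 ?_
    refine ((QuotientAddGroup.eq_zero_iff w).mpr (hjj ▸ mem_series_succ.mpr fun g => ?_)).symm
    have h1 : ((rep p V g w : ZMod p × V) : (ZMod p × V) ⧸ S) = w := hq g
    rw [QuotientAddGroup.eq_iff_sub_mem] at h1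
    rwa [dev, big_sub, big_one]

/-- The filtration of the endomorphism ring. -/
def lev (p : ℕ) (Γ : Type*) [Group Γ] (V : Type*) [AddCommGroup V] [DistribMulAction Γ V] (i : ℕ) :
    AddSubgroup (Big p V) where
  carrier := {a | ∀ j, ∀ w ∈ series p Γ V (j + i), a w ∈ series p Γ V j}
  zero_mem' j w _ := zero_mem _
  add_mem' ha hb j w hw := add_mem (ha j w hw) (hb j w hw)
  neg_mem' ha j w hw := neg_mem (ha j w hw)

theorem lowers_lev (g : Γ) : Lowers (lev p Γ V) (dev p V g) where
  anti i a ha j w hw := ha j w (series_mono (by omega) hw)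
  left i a ha j w hw := mem_series_succ.mp (ha (j + 1) w (by rwa [add_right_comm, add_assoc])) g
  right i a ha j w hw := ha j _ (mem_series_succ.mp (by rwa [← add_assoc] at hw) g)

theorem dev_mem_lev (g : Γ) : dev p V g ∈ lev p Γ V 0 :=
  fun _ _ hw => mem_series_succ.mp (series_le_succ _ hw) g

theorem lev_eq_bot {N : ℕ} (hN : series p Γ V N = ⊤) : lev p Γ V N = ⊥ := by
  rw [eq_bot_iff]
  intro a ha
  refine big_ext fun w => ?_
  have := ha 0 w (by rw [zero_add, hN]; exact AddSubgroup.mem_top w)
  exact AddSubgroup.mem_bot.mp this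

end

end Cfsg.Agent.QuadNormal
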