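import Cfsg.Agent.QuadNormal.Lead

/-!
# One replacement step for square-zero subgroups of a ring

`A` is an additive subgroup of a ring of odd prime characteristic with all products zero and `D`
has square zero.  If `A` is not closed under bracketing with `D` then its limit under conjugation by
`1 + t D` sits strictly deeper in a given filtration, still has all products zero, and kills at
least as much.
-/

set_option autoImplicit false
set_option linter.unusedSectionVars false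

namespace Cfsg.Agent.QuadNormal

noncomputable section

open Polynomial

variable {R : Type*} [Ring R]

/-- All products within `A` vanish. -/
def ZeroProd (A : AddSubgroup R) : Prop := ∀ a ∈ A, ∀ b ∈ A, a * b = 0

/-- The bracket with `D`. -/
def brk (D a : R) : R := D * a - a * D

/-- The polynomial `1 + D X`. -/
def uP (D : R) : R[X] := 1 + C D * X

theorem uP_neg (D : R) : uP (-D) = 1 - C D * X := by
  rw [uP, map_neg, neg_mul, ← sub_eq_add_neg]

theorem uP_natDegree (D : R) : (uP D).natDegree ≤ 1 := by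
  refine (natDegree_add_le _ _).trans (max_le ?_ (natDegree_C_mul_X_pow_le D 1 |> fun h => by
    simpa using h))
  simp

theorem uP_mul_uP_neg {D : R} (hD : D * D = 0) : uP D * uP (-D) = 1 := by
  have h : C D * X * (C D * X) = 0 := by
    rw [mul_assoc, ← mul_assoc X, X_mul_C, mul_assoc (C D) X, ← mul_assoc, ← C_mul, hD, C_0, zero_mul]
  rw [uP_neg, uP, mul_sub, mul_one, add_mul, one_mul, h]
  abel

theorem uP_neg_mul_uP {D : R} (hD : D * D = 0) : uP (-D) * uP D = 1 := by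
  simpa using uP_mul_uP_neg (D := -D) (by simpa using hD)

theorem coeff_uP_mul (D : R) (Q : R[X]) : ∀ n, (uP D * Q).coeff n =
    Q.coeff n + if n = 0 then 0 else D * Q.coeff (n - 1) := by
  intro n
  rw [uP, add_mul, one_mul, coeff_add, mul_assoc, coeff_C_mul, X_mul]
  cases n with
  | zero => simp
  | succ n => simp [coeff_mul_X]

theorem coeff_mul_uP (D : R) (Q : R[X]) : ∀ n, (Q * uP D).coeff n =
    Q.coeff n + if n = 0 then 0 else Q.coeff (n - 1) * D := by
  intro n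
  rw [uP, mul_add, mul_one, coeff_add, ← mul_assoc]
  cases n with
  | zero => simp
  | succ n => rw [coeff_mul_X, coeff_mul_C]; simp

theorem coeff_conj (D : R) (Q : R[X]) : ∀ n, (uP D * (Q * uP (-D))).coeff n =
    Q.coeff n + (if n = 0 then 0 else brk D (Q.coeff (n - 1))) -
      (if n ≤ 1 then 0 else D * Q.coeff (n - 2) * D) := by
  intro n
  match n with
  | 0 => rw [coeff_uP_mul, coeff_mul_uP]; simp
  | 1 =>
    rw [coeff_uP_mul, coeff_mul_uP, show (1 : ℕ) - 1 = 0 from rfl, coeff_mul_uP]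
    simp [brk]
    abel
  | k + 2 =>
    simp [coeff_uP_mul, coeff_mul_uP, brk, mul_add, mul_assoc]
    abel

/-- The limit of `A`. -/
def lim (A : AddSubgroup R) (D : R) : AddSubgroup R := lead A (uP D) (uP (-D))

/-- The limit of an annihilated subgroup. -/
def limR (K : AddSubgroup R) (D : R) : AddSubgroup R := lead K (uP D) 1

theorem lim_le {A S : AddSubgroup R} {D : R} (h : ∀ a ∈ A, a ∈ S ∧ brk D a ∈ S ∧ D * a * D ∈ S) :
    lim A D ≤ S := by
  rintro c ⟨P, hP, n, -, rfl⟩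
  obtain ⟨Q, hQ, rfl⟩ := mem_moved.mp hP
  rw [coeff_conj]
  refine sub_mem (add_mem (h _ (hQ n)).1 ?_) ?_
  · split
    · exact zero_mem _
    · exact (h _ (hQ _)).2.1
  · split
    · exact zero_mem _
    · exact (h _ (hQ _)).2.2

theorem limR_le {K S : AddSubgroup R} {D : R} (h : ∀ a ∈ K, a ∈ S ∧ D * a ∈ S) : limR K D ≤ S := by
  rintro c ⟨P, hP, n, -, rfl⟩
  obtain ⟨Q, hQ, rfl⟩ := mem_moved.mp hP
  rw [mul_one, coeff_uP_mul]
  refine add_mem (h _ (hQ n)).1 ?_
  split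
  · exact zero_mem _
  · exact (h _ (hQ _)).2

theorem coeff_polys_mul {A B : AddSubgroup R} (h : ∀ a ∈ A, ∀ b ∈ B, a * b = 0) {Q Q' : R[X]}
    (hQ : Q ∈ polys A) (hQ' : Q' ∈ polys B) : Q * Q' = 0 := by
  ext n
  rw [coeff_mul, coeff_zero]
  exact Finset.sum_eq_zero fun x _ => h _ (hQ _) _ (hQ' _)

theorem lim_mul_lead {A B : AddSubgroup R} {D : R} (hD : D * D = 0)
    (h : ∀ a ∈ A, ∀ b ∈ B, a * b = 0) (r : R[X]) :
    ∀ a ∈ lim A D, ∀ b ∈ lead B (uP D) r, a * b = 0 := by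
  rintro a ⟨P, hP, n, hn, rfl⟩ b ⟨P', hP', m, hm, rfl⟩
  obtain ⟨Q, hQ, rfl⟩ := mem_moved.mp hP
  obtain ⟨Q', hQ', rfl⟩ := mem_moved.mp hP'
  rw [← coeff_mul_add_eq_of_natDegree_le hn hm]
  have e : uP D * (Q * uP (-D)) * (uP D * (Q' * r)) =
      uP D * (Q * (uP (-D) * uP D) * Q') * r := by simp only [mul_assoc]
  rw [e, uP_neg_mul_uP hD, mul_one, coeff_polys_mul h hQ hQ', mul_zero, zero_mul, coeff_zero]

theorem zeroProd_lim {A : AddSubgroup R} {D : R} (hD : D * D = 0) (hA : ZeroProd A) :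
    ZeroProd (lim A D) := lim_mul_lead hD hA _

theorem lim_mul_limR {A K : AddSubgroup R} {D : R} (hD : D * D = 0)
    (h : ∀ a ∈ A, ∀ b ∈ K, a * b = 0) : ∀ a ∈ lim A D, ∀ b ∈ limR K D, a * b = 0 :=
  lim_mul_lead hD h _

theorem card_le_card_lim [Finite R] (A : AddSubgroup R) {D : R} (hD : D * D = 0) :
    Nat.card A ≤ Nat.card (lim A D) :=
  card_le_card_lead A _ _ _ _ (uP_neg_mul_uP hD) (uP_neg_mul_uP hD) (uP_natDegree D)
    (uP_natDegree (-D))

theorem card_le_card_limR [Finite R] (A : AddSubgroup R) {D : R} (hD : D * D = 0) :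
    Nat.card A ≤ Nat.card (limR A D) :=
  card_le_card_lead A _ _ _ 1 (uP_neg_mul_uP hD) (mul_one 1) (uP_natDegree D) (by simp)

/-- Halving in odd characteristic. -/
theorem mem_of_two_nsmul {p : ℕ} (hp : Odd p) (hchar : ∀ x : R, p • x = 0) {A : AddSubgroup R}
    {x : R} (h : x + x ∈ A) : x ∈ A := by
  obtain ⟨k, rfl⟩ := hp
  have e : x = (k + 1) • (x + x) := by
    rw [← two_nsmul, ← mul_nsmul', show (k + 1) * 2 = (2 * k + 1) + 1 by ring, succ_nsmul, hchar,
      zero_add]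
  rw [e]
  exact AddSubgroup.nsmul_mem _ h _

theorem brk_brk {D a : R} (hD : D * D = 0) : brk D (brk D a) = -(D * a * D + D * a * D) := by
  simp only [brk, mul_sub, sub_mul, ← mul_assoc, hD, zero_mul]
  rw [mul_assoc a D D, hD, mul_zero]
  abel

/-- A filtration of a ring lowered by `D`. -/
structure Lowers (L : ℕ → AddSubgroup R) (D : R) : Prop where
  anti : ∀ i, L (i + 1) ≤ L i
  left : ∀ i, ∀ a ∈ L i, D * a ∈ L (i + 1)
  right : ∀ i, ∀ a ∈ L i, a * D ∈ L (i + 1)

theorem Lowers.brk_mem {L : ℕ → AddSubgroup R} {D a : R} (h : Lowers L D) {i : ℕ} (ha : a ∈ L i) :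
    brk D a ∈ L (i + 1) := sub_mem (h.left i a ha) (h.right i a ha)

theorem Lowers.dad_mem {L : ℕ → AddSubgroup R} {D a : R} (h : Lowers L D) {i : ℕ} (ha : a ∈ L i) :
    D * a * D ∈ L (i + 1) := h.anti _ (h.right _ _ (h.left i a ha))

theorem lim_inf_le {A : AddSubgroup R} {L : ℕ → AddSubgroup R} {D : R} (h : Lowers L D) (i : ℕ) :
    lim (A ⊓ L i) D ≤ lim A D ⊓ L i :=
  le_inf (lead_mono inf_le_left _ _) (lim_le fun _ ha =>
    ⟨ha.2, h.anti i (h.brk_mem ha.2), h.anti i (h.dad_mem ha.2)⟩)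

theorem card_inf_le_lim [Finite R] {A : AddSubgroup R} {L : ℕ → AddSubgroup R} {D : R}
    (hD : D * D = 0) (h : Lowers L D) (i : ℕ) :
    Nat.card ↥(A ⊓ L i) ≤ Nat.card ↥(lim A D ⊓ L i) :=
  (card_le_card_lim _ hD).trans (AddSubgroup.card_le_of_le (lim_inf_le h i))

/-- The strict step. -/
theorem exists_lim_gain [Finite R] {p : ℕ} (hp : Odd p) (hchar : ∀ x : R, p • x = 0)
    {A : AddSubgroup R} {L : ℕ → AddSubgroup R} {D : R} {n : ℕ} (hD : D * D = 0) (h : Lowers L D)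
    (hn : L n = ⊥) (hA0 : A ≤ L 0) (hne : ¬ ∀ a ∈ A, brk D a ∈ A) :
    ∃ i < n, Nat.card ↥(A ⊓ L i) < Nat.card ↥(lim A D ⊓ L i) := by
  classical
  push Not at hne
  obtain ⟨a₀, ha₀, hb₀⟩ := hne
  let P : ℕ → Prop := fun i => ∃ a ∈ A, a ∈ L i ∧ brk D a ∉ A
  have hanti : Antitone L := antitone_nat_of_succ_le h.anti
  have hPn : ∀ i, P i → i + 1 < n := by
    rintro i ⟨a, -, hai, hb⟩
    by_contra hge
    push Not at hge
    have : brk D a ∈ L n := hanti hge (h.brk_mem hai)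
    rw [hn, AddSubgroup.mem_bot] at this
    exact hb (this ▸ zero_mem A)
  obtain ⟨i, hPi, hmax⟩ : ∃ i, P i ∧ ∀ j, P j → j ≤ i := by
    have hne : ((Finset.range n).filter P).Nonempty :=
      ⟨0, Finset.mem_filter.mpr ⟨Finset.mem_range.mpr (by have := hPn 0 ⟨a₀, ha₀, hA0 ha₀, hb₀⟩; omega),
        a₀, ha₀, hA0 ha₀, hb₀⟩⟩
    obtain ⟨i, hi, hmax⟩ := Finset.exists_max_image _ id hne
    exact ⟨i, (Finset.mem_filter.mp hi).2, fun j hj => hmax j (Finset.mem_filter.mpr
      ⟨Finset.mem_range.mpr (by have := hPn j hj; omega), hj⟩)⟩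
  refine ⟨i + 1, hPn i hPi, ?_⟩
  -- deeper elements are stable
  have hst : ∀ b ∈ A ⊓ L (i + 1), brk D b ∈ A ⊓ L (i + 1) ∧ D * b * D ∈ A ⊓ L (i + 1) := by
    intro b hb
    have h1 : ∀ b ∈ A ⊓ L (i + 1), brk D b ∈ A ⊓ L (i + 1) := fun b hb =>
      ⟨by_contra fun hc => absurd (hmax (i + 1) ⟨b, hb.1, hb.2, hc⟩) (by omega),
        h.anti _ (h.brk_mem hb.2)⟩
    refine ⟨h1 b hb, mem_of_two_nsmul hp hchar ?_⟩
    have := neg_mem (h1 _ (h1 b hb))
    rwa [brk_brk hD, neg_neg] at this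
  -- the constant polynomial
  have hconst : ∀ b ∈ A ⊓ L (i + 1), C b ∈ moved A (uP D) (uP (-D)) := by
    intro b hb
    refine mem_moved.mpr ⟨uP (-D) * (C b * uP D), fun k => ?_, ?_⟩
    · have hc := coeff_conj (-D) (C b) k
      rw [neg_neg] at hc
      rw [hc]
      have hz : ∀ m, (C b).coeff m ∈ A ⊓ L (i + 1) := fun m => by
        rw [coeff_C]; split
        · exact hb
        · exact zero_mem _
      refine sub_mem (add_mem (hz k).1 ?_) ?_
      · split
        · exact zero_mem _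
        · have e : brk (-D) ((C b).coeff (k - 1)) = -brk D ((C b).coeff (k - 1)) := by
            simp [brk]; abel
          rw [e]; exact neg_mem (hst _ (hz _)).1.1
      · split
        · exact zero_mem _
        · rw [neg_mul, neg_mul_neg]; exact (hst _ (hz _)).2.1
    · have e : uP D * (uP (-D) * (C b * uP D) * uP (-D)) =
          (uP D * uP (-D)) * C b * (uP D * uP (-D)) := by simp only [mul_assoc]
      rw [e, uP_mul_uP_neg hD, one_mul, mul_one]
  have hle : A ⊓ L (i + 1) ≤ lim A D ⊓ L (i + 1) := fun b hb =>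
    ⟨⟨C b, hconst b hb, 0, by simp, coeff_C_zero⟩, hb.2⟩
  obtain ⟨a, haA, hai, hb⟩ := hPi
  suffices ∃ c ∈ lim A D ⊓ L (i + 1), c ∉ A ⊓ L (i + 1) by
    obtain ⟨c, hc, hc'⟩ := this
    refine lt_of_le_of_ne (AddSubgroup.card_le_of_le hle) fun e => hc' ?_
    exact (AddSubgroup.eq_of_le_of_card_ge hle e.ge).symm ▸ hc
  set f := D * a * D with hf
  have hP : uP D * (C a * uP (-D)) ∈ moved A (uP D) (uP (-D)) :=
    mem_moved.mpr ⟨C a, fun k => by rw [coeff_C]; split <;> [exact haA; exact zero_mem _], rfl⟩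
  have hd : ∀ k, 2 < k → (uP D * (C a * uP (-D))).coeff k = 0 := by
    intro k hk
    rw [coeff_conj, coeff_C, coeff_C, coeff_C, if_neg (by omega), if_neg (by omega),
      if_neg (by omega), if_neg (by omega), if_neg (by omega)]
    simp [brk]
  by_cases hfA : f ∈ A
  · have hfm : f ∈ A ⊓ L (i + 1) := ⟨hfA, h.dad_mem hai⟩
    refine ⟨brk D a, ⟨⟨uP D * (C a * uP (-D)) + C f * X ^ 2,
      add_mem hP (moved_mul_X_pow (hconst f hfm) 2), 1, ?_, ?_⟩, h.brk_mem hai⟩, fun hc => hb hc.1⟩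
    · rw [natDegree_le_iff_coeff_eq_zero]
      intro k hk
      rcases Nat.eq_or_lt_of_le (show 2 ≤ k by omega) with rfl | hk'
      · rw [coeff_add, coeff_conj, coeff_C_mul_X_pow, if_pos rfl]; simp [coeff_C, brk, hf]
      · rw [coeff_add, hd k hk', coeff_C_mul_X_pow, if_neg (by omega), add_zero]
    · rw [coeff_add, coeff_conj]; simp [coeff_C]
  · refine ⟨-f, ⟨⟨uP D * (C a * uP (-D)), hP, 2,
      natDegree_le_iff_coeff_eq_zero.mpr fun k hk => hd k hk, ?_⟩,
      AddSubgroup.neg_mem _ (h.dad_mem hai)⟩, fun hc => hfA (neg_mem_iff.mp (AddSubgroup.mem_inf.mp hc).1)⟩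
    rw [coeff_conj]; simp [coeff_C, brk, hf]

end

end Cfsg.Agent.QuadNormal
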